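import Mathlib

/-! First order truncations `D[u, v]/(u², v²)` and `D[u, v]/(u, v)²`. -/

set_option autoImplicit false
universe u

namespace Groth.Misc5Node


open IsLocalRing TrivSqZeroExt

variable {D E : Type u} [CommRing D] [CommRing E]

/-- `D[u, v]/(u², v²)`. -/
abbrev T₂ (D : Type u) [CommRing D] := DualNumber (DualNumber D)

/-- `D[u, v]/(u, v)²`. -/
abbrev T₁ (D : Type u) [CommRing D] := TrivSqZeroExt D (D × D)

/-- `D[u, v]/(u², v²) → D[u, v]/(u, v)²`. -/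
def piHom (D : Type u) [CommRing D] : T₂ D →+* T₁ D where
  toFun x := inl x.fst.fst + inr (x.fst.snd, x.snd.fst)
  map_one' := by ext <;> simp
  map_mul' x y := by ext <;> simp <;> ring
  map_zero' := by ext <;> simp
  map_add' x y := by ext <;> simp

/-- Functoriality in the coefficients. -/
def map₂ (j : D →+* E) : T₂ D →+* T₂ E where
  toFun x := inl (inl (j x.fst.fst) + inr (j x.fst.snd)) + inr (inl (j x.snd.fst) + inr (j x.snd.snd))
  map_one' := by ext <;> simp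
  map_mul' x y := by ext <;> simp <;> ring
  map_zero' := by ext <;> simp
  map_add' x y := by ext <;> simp

/-- Functoriality in the coefficients. -/
def map₁ (j : D →+* E) : T₁ D →+* T₁ E where
  toFun x := inl (j x.fst) + inr (j x.snd.1, j x.snd.2)
  map_one' := by ext <;> simp
  map_mul' x y := by ext <;> simp <;> ring
  map_zero' := by ext <;> simp
  map_add' x y := by ext <;> simp

/-- `u ↦ s u`, `v ↦ s v`. -/
def scale₂ (s : D) : T₂ D →+* T₂ D where
  toFun x := inl (inl x.fst.fst + inr (s * x.fst.snd)) + inr (inl (s * x.snd.fst) + inr (s * s * x.snd.snd))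
  map_one' := by ext <;> simp
  map_mul' x y := by ext <;> simp <;> ring
  map_zero' := by ext <;> simp
  map_add' x y := by ext <;> simp <;> ring

/-- `u ↦ s u`, `v ↦ s v`. -/
def scale₁ (s : D) : T₁ D →+* T₁ D where
  toFun x := inl x.fst + inr (s * x.snd.1, s * x.snd.2)
  map_one' := by ext <;> simp
  map_mul' x y := by ext <;> simp <;> ring
  map_zero' := by ext <;> simp
  map_add' x y := by ext <;> simp <;> ring

theorem mul₂ (x y : T₂ D) :
    (x * y).fst.fst = x.fst.fst * y.fst.fst ∧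
    (x * y).fst.snd = x.fst.fst * y.fst.snd + x.fst.snd * y.fst.fst ∧
    (x * y).snd.fst = x.fst.fst * y.snd.fst + x.snd.fst * y.fst.fst ∧
    (x * y).snd.snd = x.fst.fst * y.snd.snd + x.fst.snd * y.snd.fst +
      (x.snd.fst * y.fst.snd + x.snd.snd * y.fst.fst) := by
  refine ⟨?_, ?_, ?_, ?_⟩ <;> simp [mul_comm] <;> ring

/-- The filtration of `D[u, v]/(u², v²)` generated by `I` and `u, v`, in degree `n + 2`. -/
def deep₂ (I : Ideal D) (n : ℕ) : Ideal (T₂ D) where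
  carrier := {x | x.fst.fst ∈ I ^ (n + 2) ∧ x.fst.snd ∈ I ^ (n + 1) ∧ x.snd.fst ∈ I ^ (n + 1) ∧ x.snd.snd ∈ I ^ n}
  zero_mem' := by simp
  add_mem' := fun h h' => ⟨add_mem h.1 h'.1, add_mem h.2.1 h'.2.1, add_mem h.2.2.1 h'.2.2.1, add_mem h.2.2.2 h'.2.2.2⟩
  smul_mem' := fun c x h => by
    obtain ⟨h0, h1, h2, h3⟩ := h
    obtain ⟨e0, e1, e2, e3⟩ := mul₂ c x
    have h01 : x.fst.fst ∈ I ^ (n + 1) := Ideal.pow_le_pow_right (Nat.le_succ _) h0
    have hn1 : I ^ (n + 1) ≤ I ^ n := Ideal.pow_le_pow_right (Nat.le_succ _)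
    simp only [Set.mem_ofPred_eq, smul_eq_mul, e0, e1, e2, e3]
    exact ⟨Ideal.mul_mem_left _ _ h0,
      add_mem (Ideal.mul_mem_left _ _ h1) (Ideal.mul_mem_left _ _ h01),
      add_mem (Ideal.mul_mem_left _ _ h2) (Ideal.mul_mem_left _ _ h01),
      add_mem (add_mem (Ideal.mul_mem_left _ _ h3) (Ideal.mul_mem_left _ _ (hn1 h2)))
        (add_mem (Ideal.mul_mem_left _ _ (hn1 h1)) (Ideal.mul_mem_left _ _ (hn1 h01)))⟩

theorem pow_le_deep₂ (I : Ideal D) (n : ℕ) {A : Type u} [CommRing A] (f : A →+* T₂ D) (J : Ideal A)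
    (hJ : ∀ x ∈ J, (f x).fst.fst ∈ I) : J ^ (n + 2) ≤ (deep₂ I n).comap f := by
  induction n with
  | zero =>
    refine (le_of_eq (pow_two J)).trans (Ideal.mul_le.2 ?_)
    intro a ha b hb
    obtain ⟨x, hxa⟩ : ∃ x, f a = x := ⟨_, rfl⟩
    obtain ⟨y, hyb⟩ : ∃ y, f b = y := ⟨_, rfl⟩
    have hx : x.fst.fst ∈ I := hxa ▸ hJ a ha
    have hy : y.fst.fst ∈ I := hyb ▸ hJ b hb
    show f (a * b) ∈ deep₂ I 0
    rw [map_mul, hxa, hyb]
    obtain ⟨e0, e1, e2, e3⟩ := mul₂ x y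
    refine ⟨?_, ?_, ?_, by simp⟩
    · rw [e0, Nat.zero_add, pow_two]; exact Ideal.mul_mem_mul hx hy
    · rw [e1, Nat.zero_add, pow_one]
      exact add_mem (Ideal.mul_mem_right _ _ hx) (Ideal.mul_mem_left _ _ hy)
    · rw [e2, Nat.zero_add, pow_one]
      exact add_mem (Ideal.mul_mem_right _ _ hx) (Ideal.mul_mem_left _ _ hy)
  | succ n ih =>
    refine (le_of_eq (pow_succ J (n + 2))).trans (Ideal.mul_le.2 ?_)
    intro a ha b hb
    obtain ⟨x, hxa⟩ : ∃ x, f a = x := ⟨_, rfl⟩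
    obtain ⟨y, hyb⟩ : ∃ y, f b = y := ⟨_, rfl⟩
    obtain ⟨h0, h1, h2, h3⟩ : x ∈ deep₂ I n := hxa ▸ ih ha
    have hy : y.fst.fst ∈ I := hyb ▸ hJ b hb
    show f (a * b) ∈ deep₂ I (n + 1)
    rw [map_mul, hxa, hyb]
    obtain ⟨e0, e1, e2, e3⟩ := mul₂ x y
    have hp : ∀ k, ∀ a ∈ I ^ k, a * y.fst.fst ∈ I ^ (k + 1) := fun k a ha =>
      pow_succ I k ▸ Ideal.mul_mem_mul ha hy
    have hle : I ^ (n + 2) ≤ I ^ (n + 1) := Ideal.pow_le_pow_right (Nat.le_succ _)
    refine ⟨?_, ?_, ?_, ?_⟩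
    · rw [e0]; exact hp _ _ h0
    · rw [e1]; exact add_mem (Ideal.mul_mem_right _ _ h0) (hp _ _ h1)
    · rw [e2]; exact add_mem (Ideal.mul_mem_right _ _ h0) (hp _ _ h2)
    · rw [e3]
      exact add_mem (add_mem (Ideal.mul_mem_right _ _ (hle h0)) (Ideal.mul_mem_right _ _ h1))
        (add_mem (Ideal.mul_mem_right _ _ h2) (hp _ _ h3))

/-- The filtration of `D[u, v]/(u, v)²` generated by `I` and `u, v`, in degree `n + 1`. -/
def deep₁ (I : Ideal D) (n : ℕ) : Ideal (T₁ D) where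
  carrier := {x | x.fst ∈ I ^ (n + 1) ∧ x.snd.1 ∈ I ^ n ∧ x.snd.2 ∈ I ^ n}
  zero_mem' := by simp
  add_mem' := fun h h' => ⟨add_mem h.1 h'.1, add_mem h.2.1 h'.2.1, add_mem h.2.2 h'.2.2⟩
  smul_mem' := fun c x h => by
    obtain ⟨h0, h1, h2⟩ := h
    have h01 : x.fst ∈ I ^ n := Ideal.pow_le_pow_right (Nat.le_succ _) h0
    simp only [Set.mem_setOf_eq, smul_eq_mul, fst_mul, snd_mul, op_smul_eq_smul, Prod.fst_add,
      Prod.snd_add, Prod.smul_fst, Prod.smul_snd]
    exact ⟨Ideal.mul_mem_left _ _ h0, add_mem (Ideal.mul_mem_left _ _ h1) (Ideal.mul_mem_right _ _ h01),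
      add_mem (Ideal.mul_mem_left _ _ h2) (Ideal.mul_mem_right _ _ h01)⟩

theorem pow_le_deep₁ (I : Ideal D) (n : ℕ) {A : Type u} [CommRing A] (f : A →+* T₁ D) (J : Ideal A)
    (hJ : ∀ x ∈ J, (f x).fst ∈ I) : J ^ (n + 1) ≤ (deep₁ I n).comap f := by
  induction n with
  | zero =>
    intro x hx
    rw [Nat.zero_add, pow_one] at hx
    exact ⟨by rw [Nat.zero_add, pow_one]; exact hJ x hx, by simp, by simp⟩
  | succ n ih =>
    refine (le_of_eq (pow_succ J (n + 1))).trans (Ideal.mul_le.2 ?_)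
    intro a ha b hb
    obtain ⟨x, hxa⟩ : ∃ x, f a = x := ⟨_, rfl⟩
    obtain ⟨y, hyb⟩ : ∃ y, f b = y := ⟨_, rfl⟩
    obtain ⟨h0, h1, h2⟩ : x ∈ deep₁ I n := hxa ▸ ih ha
    have hy : y.fst ∈ I := hyb ▸ hJ b hb
    show f (a * b) ∈ deep₁ I (n + 1)
    rw [map_mul, hxa, hyb]
    refine ⟨?_, ?_, ?_⟩
    · rw [fst_mul, pow_succ]; exact Ideal.mul_mem_mul h0 hy
    · simp only [snd_mul, op_smul_eq_smul, Prod.fst_add, Prod.smul_fst, smul_eq_mul]
      refine add_mem (Ideal.mul_mem_right _ _ h0) ?_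
      rw [pow_succ, mul_comm y.fst]; exact Ideal.mul_mem_mul h1 hy
    · simp only [snd_mul, op_smul_eq_smul, Prod.snd_add, Prod.smul_snd, smul_eq_mul]
      refine add_mem (Ideal.mul_mem_right _ _ h0) ?_
      rw [pow_succ, mul_comm y.fst]; exact Ideal.mul_mem_mul h2 hy

/-- The first order truncation of a power series in two variables. -/
noncomputable def truncHom {S : Type u} [CommRing S] (ρ : S →+* D) : MvPowerSeries (Fin 2) S →+* T₁ D where
  toFun f := inl (ρ (MvPowerSeries.coeff 0 f)) +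
    inr (ρ (MvPowerSeries.coeff (Finsupp.single 0 1) f), ρ (MvPowerSeries.coeff (Finsupp.single 1 1) f))
  map_one' := by ext <;> simp [MvPowerSeries.coeff_one]
  map_mul' f g := by
    have h1 : ∀ i : Fin 2, MvPowerSeries.coeff (Finsupp.single i 1) (f * g) =
        MvPowerSeries.coeff 0 f * MvPowerSeries.coeff (Finsupp.single i 1) g +
          MvPowerSeries.coeff (Finsupp.single i 1) f * MvPowerSeries.coeff 0 g := fun i => by
      classical
      rw [MvPowerSeries.coeff_mul, Finsupp.antidiagonal_single, Finset.sum_map]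
      rw [show Finset.HasAntidiagonal.antidiagonal (1 : ℕ) = {(0, 1), (1, 0)} by decide]
      simp
    ext <;> simp [h1, MvPowerSeries.coeff_mul, mul_comm]
  map_zero' := by ext <;> simp
  map_add' f g := by ext <;> simp

theorem exists_lift_of_sq_zero {R A S T : Type u} [CommRing R] [CommRing A] [CommRing S] [CommRing T]
    [Algebra R A] [Algebra R S] [Algebra R T] [Algebra.FormallySmooth R A] (g : A →ₐ[R] T)
    (π : S →ₐ[R] T) (hπ : Function.Surjective π) (hsq : ∀ x y, π x = 0 → π y = 0 → x * y = 0) :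
    ∃ h : A →ₐ[R] S, ∀ x, π (h x) = g x := by
  have hn : IsNilpotent (RingHom.ker (π : S →+* T)) := ⟨2, by
    rw [pow_two, Ideal.zero_eq_bot, eq_bot_iff, Ideal.mul_le]
    exact fun x hx y hy => hsq x y hx hy⟩
  exact ⟨Algebra.FormallySmooth.liftOfSurjective g π hπ hn,
    fun x => Algebra.FormallySmooth.liftOfSurjective_apply g π hπ hn x⟩

end Groth.Misc5Node
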